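import Cfsg.Agent.Lib.Cores.Components
import Cfsg.Agent.Lib.Cores.Fitting
import Cfsg.Agent.Lib.Cores.Coprime
import Cfsg.Agent.Lib.Cores.Local
import Cfsg.Agent.Lib.Solvable.Basic

/-!
`O^p(F*(H))` and `O_p(H)` of a subgroup `H` of a finite group, read inside the ambient group.
-/

set_option autoImplicit false
set_option linter.style.haveILetI false
set_option linter.unusedSectionVars false

namespace CfsgLib.OpFitCoprime

open Subgroup Cfsg

variable {X : Type*} [Group X]

/-- `O_p(H)` inside the ambient group. -/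
def pRad (p : ℕ) (H : Subgroup X) : Subgroup X := (pCore p ↥H).map H.subtype

/-- `F*(H)` inside the ambient group. -/
def fitStar (H : Subgroup X) : Subgroup X := (generalizedFittingSubgroup ↥H).map H.subtype

/-- `O^p(F*(H))` inside the ambient group: the closure of the `p'`-elements of `F*(H)`. -/
def opFit (p : ℕ) (H : Subgroup X) : Subgroup X :=
  closure {x : X | x ∈ fitStar H ∧ (orderOf x).Coprime p}

theorem opFit_eq_map (p : ℕ) (H : Subgroup X) :
    ((pResidual p ↥(generalizedFittingSubgroup ↥H)).map (generalizedFittingSubgroup ↥H).subtype).map H.subtype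
      = opFit p H := by
  rw [pResidual, MonoidHom.map_closure, MonoidHom.map_closure, opFit]
  congr 1
  ext x
  constructor
  · rintro ⟨_, ⟨y, hy, rfl⟩, rfl⟩
    refine ⟨mem_map_of_mem _ y.2, ?_⟩
    rwa [show H.subtype ((generalizedFittingSubgroup ↥H).subtype y) = ((y : ↥H) : X) from rfl,
      Subgroup.orderOf_coe, Subgroup.orderOf_coe]
  · rintro ⟨⟨y, hy, rfl⟩, hx⟩
    refine ⟨y, ⟨⟨y, hy⟩, ?_, rfl⟩, rfl⟩
    simpa [Subgroup.orderOf_coe] using hx

theorem fitStar_le (H : Subgroup X) : fitStar H ≤ H := map_subtype_le _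

theorem pRad_le (p : ℕ) (H : Subgroup X) : pRad p H ≤ H := map_subtype_le _

theorem opFit_le_fitStar (p : ℕ) (H : Subgroup X) : opFit p H ≤ fitStar H :=
  (closure_le _).2 fun _ hx => hx.1

theorem opFit_le (p : ℕ) (H : Subgroup X) : opFit p H ≤ H := (opFit_le_fitStar p H).trans (fitStar_le H)

theorem mem_opFit {p : ℕ} {H : Subgroup X} {x : X} (hx : x ∈ fitStar H) (hc : (orderOf x).Coprime p) :
    x ∈ opFit p H :=
  subset_closure ⟨hx, hc⟩

/-- Whatever normalises `H` normalises the image of a characteristic subgroup of `H`. -/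
theorem le_normalizer_map_char [Finite X] {H A : Subgroup X} {K : Subgroup H} [hK : K.Characteristic]
    (hA : A ≤ normalizer (H : Set X)) : A ≤ normalizer ((K.map H.subtype : Subgroup X) : Set X) := by
  intro g hg
  refine CfsgLib.Solvable.mem_normalizer_of_conj_mem ?_
  rintro _ ⟨y, hy, rfl⟩
  exact ⟨_, characteristic_iff_map_le.1 hK (normalizerMonoidHom H ⟨g, hA hg⟩) ⟨y, hy, rfl⟩, rfl⟩

section Finite

variable [Finite X] {p : ℕ} {H : Subgroup X}

theorem le_normalizer_pRad {A : Subgroup X} (hA : A ≤ normalizer (H : Set X)) :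
    A ≤ normalizer (pRad p H : Set X) :=
  haveI := CfsgLib.Cores.pCore_characteristic (G := ↥H) p
  le_normalizer_map_char hA

theorem le_normalizer_fitStar {A : Subgroup X} (hA : A ≤ normalizer (H : Set X)) :
    A ≤ normalizer (fitStar H : Set X) :=
  haveI := CfsgLib.Cores.generalizedFittingSubgroup_characteristic (G := ↥H)
  le_normalizer_map_char hA

theorem le_normalizer_opFit {A : Subgroup X} (hA : A ≤ normalizer (H : Set X)) :
    A ≤ normalizer (opFit p H : Set X) := by
  intro g hg
  refine CfsgLib.Solvable.mem_normalizer_of_conj_mem ?_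
  suffices opFit p H ≤ (opFit p H).comap (MulAut.conj g).toMonoidHom from fun x hx => this hx
  refine (closure_le _).2 fun x hx => ?_
  refine mem_opFit ((mem_normalizer_iff.1 (le_normalizer_fitStar hA hg) x).1 hx.1) ?_
  rw [orderOf_injective (MulAut.conj g).toMonoidHom (MulAut.conj g).injective]
  exact hx.2

theorem isPGroup_pRad : IsPGroup p (pRad p H) :=
  (CfsgLib.Cores.isPGroup_pCore (G := ↥H) p).map _

theorem pRad_le_fitStar [Fact p.Prime] : pRad p H ≤ fitStar H :=
  map_mono ((CfsgLib.Cores.pCore_le_fittingSubgroup p).trans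
    CfsgLib.Cores.fittingSubgroup_le_generalizedFittingSubgroup)

/-- A `p`-subgroup of `H` normalised by `H` lies in `O_p(H)`. -/
theorem le_pRad {Q : Subgroup X} (hQ : IsPGroup p Q) (hQH : Q ≤ H) (hn : H ≤ normalizer (Q : Set X)) :
    Q ≤ pRad p H := by
  intro x hx
  haveI : (Q.subgroupOf H).Normal := (normal_subgroupOf_iff_le_normalizer hQH).2 hn
  exact ⟨⟨x, hQH hx⟩, CfsgLib.Cores.le_pCore (N := Q.subgroupOf H)
    (hQ.of_equiv (subgroupOfEquivOfLe hQH).symm) hx, rfl⟩

/-- `C_H(F*(H)) ≤ F*(H)`. -/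
theorem mem_fitStar_of_centralizes {h : X} (hh : h ∈ H) (hc : h ∈ centralizer (fitStar H : Set X)) :
    h ∈ fitStar H := by
  refine ⟨⟨h, hh⟩, CfsgLib.Cores.centralizer_generalizedFittingSubgroup_le
    (mem_centralizer_iff.2 fun y hy => Subtype.ext ?_), rfl⟩
  exact mem_centralizer_iff.1 hc (y : X) (mem_map_of_mem _ hy)

section TypeLevel

variable {G : Type*} [Group G] [Finite G] [hp : Fact p.Prime]

private theorem generalizedFitting_le_sup :
    generalizedFittingSubgroup G ≤
      closure {x : G | x ∈ generalizedFittingSubgroup G ∧ (orderOf x).Coprime p} ⊔ pCore p G := by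
  set L := closure {x : G | x ∈ generalizedFittingSubgroup G ∧ (orderOf x).Coprime p}
  refine sup_le ?_ ?_
  · refine le_sup_of_le_left ?_
    conv_lhs => rw [← CfsgLib.Cores.pPrimeElemClosure_eq_self_of_perfect p
      (CfsgLib.Cores.commutator_layer_self (G := G))]
    refine closure_mono ?_
    rintro x ⟨hx, hc⟩
    exact ⟨CfsgLib.Cores.layer_le_generalizedFittingSubgroup hx, hc⟩
  · refine CfsgLib.Cores.fittingSubgroup_le_iSup_pCore.trans (iSup_le fun q => ?_)
    by_cases hq : (q : ℕ) = p
    · rw [hq]; exact le_sup_right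
    · refine le_sup_of_le_left fun x hx => subset_closure ⟨?_, ?_⟩
      · haveI : Fact (q : ℕ).Prime := ⟨Nat.prime_of_mem_primeFactors q.2⟩
        exact CfsgLib.Cores.fittingSubgroup_le_generalizedFittingSubgroup
          (CfsgLib.Cores.pCore_le_fittingSubgroup (q : ℕ) hx)
      · haveI : Fact (q : ℕ).Prime := ⟨Nat.prime_of_mem_primeFactors q.2⟩
        obtain ⟨k, hk⟩ := IsPGroup.iff_orderOf.1 (CfsgLib.Cores.isPGroup_pCore (G := G) (q : ℕ)) ⟨x, hx⟩
        rw [Subgroup.orderOf_mk] at hk
        rw [hk]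
        exact Nat.Coprime.pow_left k ((Nat.coprime_primes Fact.out hp.out).2 hq)

private theorem commute_pCore {x t : G} (hx : x ∈ generalizedFittingSubgroup G)
    (hc : (orderOf x).Coprime p) (ht : t ∈ pCore p G) : Commute x t := by
  haveI := CfsgLib.Cores.pCore_characteristic (G := G) p
  let φ : G →* MulAut ↥(pCore p G) := MulAut.conjNormal
  have hT := CfsgLib.Cores.isPGroup_pCore (G := G) p
  have hker : ∀ y : G, φ y = 1 ↔ ∀ s ∈ pCore p G, Commute y s := by
    intro y
    constructor
    · intro h s hs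
      have := congrArg (fun f : MulAut ↥(pCore p G) => ((f ⟨s, hs⟩ : ↥(pCore p G)) : G)) h
      simp only [φ, MulAut.conjNormal_apply, MulAut.one_apply] at this
      exact mul_inv_eq_iff_eq_mul.1 this
    · intro h
      refine MulEquiv.ext fun s => Subtype.ext ?_
      rw [MulAut.conjNormal_apply, MulAut.one_apply, (h s s.2).eq, mul_inv_cancel_right]
  suffices hle : (generalizedFittingSubgroup G).map φ ≤ (pCore p G).map φ by
    obtain ⟨s, hs, hsx⟩ := hle (mem_map_of_mem φ hx)
    obtain ⟨k, hk⟩ := hT ⟨s, hs⟩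
    have hk' : s ^ p ^ k = 1 := by simpa using congrArg Subtype.val hk
    have h1 : φ x ^ p ^ k = 1 := by rw [← hsx, ← map_pow, hk', map_one]
    have h2 : φ x ^ orderOf x = 1 := by rw [← map_pow, pow_orderOf_eq_one, map_one]
    have h3 : φ x = 1 := by
      have := pow_gcd_eq_one.2 ⟨h1, h2⟩
      rwa [Nat.Coprime.gcd_eq_one (Nat.Coprime.pow_left k hc.symm), pow_one] at this
    exact (hker x).1 h3 t ht
  rw [map_le_iff_le_comap]
  refine sup_le ?_ ?_
  · intro e he
    refine mem_comap.2 ?_
    rw [(hker e).2 fun s hs => ?_]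
    · exact one_mem _
    · exact (mem_centralizer_iff.1 (CfsgLib.Cores.layer_le_centralizer_fittingSubgroup he) s
        (CfsgLib.Cores.pCore_le_fittingSubgroup p hs)).symm
  · refine CfsgLib.Cores.fittingSubgroup_le_iSup_pCore.trans (iSup_le fun q => ?_)
    by_cases hq : (q : ℕ) = p
    · rw [hq]; exact fun s hs => mem_comap.2 (mem_map_of_mem φ hs)
    · intro e he
      refine mem_comap.2 ?_
      rw [(hker e).2 fun s hs => ?_]
      · exact one_mem _
      · haveI : Fact (q : ℕ).Prime := ⟨Nat.prime_of_mem_primeFactors q.2⟩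
        haveI := CfsgLib.Cores.pCore_characteristic (G := G) (q : ℕ)
        have hd : Disjoint (pCore (q : ℕ) G) (pCore p G) :=
          (CfsgLib.Cores.isPGroup_pCore _).disjoint_of_ne (q : ℕ) p hq _ _ hT
        exact Subgroup.commute_of_normal_of_disjoint _ _ inferInstance inferInstance hd e s he hs

end TypeLevel

variable [hp : Fact p.Prime]

/-- `F*(H) = O^p(F*(H)) O_p(H)`. -/
theorem fitStar_le_sup : fitStar H ≤ opFit p H ⊔ pRad p H := by
  refine (map_mono (generalizedFitting_le_sup (p := p) (G := ↥H))).trans ?_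
  rw [Subgroup.map_sup, MonoidHom.map_closure]
  refine sup_le_sup_right (Subgroup.closure_mono ?_) _
  rintro _ ⟨y, ⟨hy, hc⟩, rfl⟩
  exact ⟨mem_map_of_mem _ hy, by rwa [coe_subtype, Subgroup.orderOf_coe]⟩

/-- `O^p(F*(H))` centralises `O_p(H)`. -/
theorem opFit_le_centralizer_pRad : opFit p H ≤ centralizer (pRad p H : Set X) := by
  refine (closure_le _).2 ?_
  rintro _ ⟨⟨y, hy, rfl⟩, hc⟩
  refine mem_centralizer_iff.2 ?_
  rintro _ ⟨t, ht, rfl⟩
  exact ((commute_pCore hy (by simpa [Subgroup.orderOf_coe] using hc) ht).map H.subtype).symm.eq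

/-- An element of `H` centralising `O^p(F*(H))` and `O_p(H)` lies in the centre of `F*(H)`. -/
theorem mem_fitStar_center {h : X} (hh : h ∈ H) (hL : h ∈ centralizer (opFit p H : Set X))
    (hT : h ∈ centralizer (pRad p H : Set X)) :
    h ∈ fitStar H ∧ h ∈ centralizer (fitStar H : Set X) := by
  have hc : h ∈ centralizer (fitStar H : Set X) := by
    have : fitStar H ≤ centralizer ({h} : Set X) := by
      refine (fitStar_le_sup (p := p)).trans (sup_le (fun l hl => ?_) fun l hl => ?_) <;>
        rw [mem_centralizer_singleton_iff]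
      · exact mem_centralizer_iff.1 hL l hl
      · exact mem_centralizer_iff.1 hT l hl
    exact mem_centralizer_iff.2 fun l hl => mem_centralizer_singleton_iff.1 (this hl)
  exact ⟨mem_fitStar_of_centralizes hh hc, hc⟩

end Finite

end CfsgLib.OpFitCoprime
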