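import Cfsg.Agent.Lib.Solvable.CoprimeAction

/-!
The intersection of the Sylow `p`-subgroups of `G` normalised by a coprime group `R`: it is the
largest `p`-subgroup of `G` normalised by `R` and by `C_G(R)`.
-/

set_option autoImplicit false
set_option linter.unusedSectionVars false

namespace CfsgLib.OpFitCoprime

open Subgroup
open scoped Pointwise

variable {X : Type*} [Group X]

/-- The intersection of the `R`-invariant Sylow `p`-subgroups of `G`. -/
def invCore (p : ℕ) (G R : Subgroup X) : Subgroup X :=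
  ⨅ S : {S : Sylow p ↥G // ∀ a ∈ R, ((S : Subgroup ↥G).map G.subtype).map (MulAut.conj a).toMonoidHom = (S : Subgroup ↥G).map G.subtype}, ((S : Sylow p ↥G) : Subgroup ↥G).map G.subtype

variable [Finite X] {p : ℕ} [Fact p.Prime] {G R : Subgroup X}

/-- Coprime action data. -/
structure CoprimeAct (G R : Subgroup X) : Prop where
  norm : R ≤ normalizer (G : Set X)
  cop : (Nat.card R).Coprime (Nat.card G)
  solv : Group.IsSolvable R

theorem invariant_iff {P : Subgroup X} :
    (∀ a ∈ R, P.map (MulAut.conj a).toMonoidHom = P) ↔ R ≤ normalizer (P : Set X) := by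
  refine ⟨fun h a ha => ?_, fun h a ha => ?_⟩
  · rw [CfsgLib.Solvable.mem_normalizer_iff_conj_smul, CfsgLib.Solvable.conj_smul_eq_map]; exact h a ha
  · rw [← CfsgLib.Solvable.conj_smul_eq_map]
    exact CfsgLib.Solvable.mem_normalizer_iff_conj_smul.1 (h ha)

theorem mem_invCore_iff {x : X} :
    x ∈ invCore p G R ↔
      ∀ S : Sylow p ↥G, R ≤ normalizer (((S : Subgroup ↥G).map G.subtype : Subgroup X) : Set X) →
        x ∈ (S : Subgroup ↥G).map G.subtype := by
  rw [invCore, mem_iInf]
  exact ⟨fun h S hS => h ⟨S, invariant_iff.2 hS⟩, fun h S => h S.1 (invariant_iff.1 S.2)⟩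

theorem invCore_le_sylow (S : Sylow p ↥G)
    (hS : R ≤ normalizer (((S : Subgroup ↥G).map G.subtype : Subgroup X) : Set X)) :
    invCore p G R ≤ (S : Subgroup ↥G).map G.subtype := fun _ hx => mem_invCore_iff.1 hx S hS

variable (h : CoprimeAct G R)
include h

theorem invCore_le : invCore p G R ≤ G := by
  obtain ⟨S, hS⟩ := CfsgLib.Solvable.exists_invariant_sylow R G h.norm h.cop (Or.inl h.solv) p
  exact (invCore_le_sylow S hS).trans (map_subtype_le _)

theorem isPGroup_invCore : IsPGroup p (invCore p G R) := by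
  obtain ⟨S, hS⟩ := CfsgLib.Solvable.exists_invariant_sylow R G h.norm h.cop (Or.inl h.solv) p
  exact (S.2.map G.subtype).to_le (invCore_le_sylow S hS)

/-- An element normalising `G` and `R` normalises the intersection. -/
theorem mem_normalizer_invCore {g : X} (hgG : g ∈ normalizer (G : Set X))
    (hgR : g ∈ normalizer (R : Set X)) : g ∈ normalizer (invCore p G R : Set X) := by
  refine CfsgLib.Solvable.mem_normalizer_of_conj_mem fun x hx => mem_invCore_iff.2 fun S hS => ?_
  have hg' : g⁻¹ ∈ normalizer (G : Set X) := inv_mem hgG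
  have hle : MulAut.conj g⁻¹ • (S : Subgroup ↥G).map G.subtype ≤ G :=
    CfsgLib.Solvable.conj_smul_le_iff.2 fun y hy =>
      CfsgLib.Solvable.normalizer_conj_mem hg' (map_subtype_le _ hy)
  obtain ⟨Q, hQ⟩ := CfsgLib.Solvable.exists_sylow_map_eq hle S
    (by rw [CfsgLib.Solvable.card_conj_smul, CfsgLib.Solvable.card_sylow_map])
  have hQR : R ≤ normalizer (((Q : Subgroup ↥G).map G.subtype : Subgroup X) : Set X) := by
    rw [hQ]
    intro a ha
    refine CfsgLib.Solvable.mem_normalizer_of_conj_mem fun y hy => ?_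
    rw [CfsgLib.Solvable.mem_conj_smul_iff] at hy ⊢
    have ha' : g * a * g⁻¹ ∈ R := (mem_normalizer_iff.1 hgR a).1 ha
    have := (mem_normalizer_iff.1 (hS ha') _).1 hy
    simpa [mul_assoc] using this
  have := mem_invCore_iff.1 hx Q hQR
  rw [hQ, CfsgLib.Solvable.mem_conj_smul_iff] at this
  simpa [mul_assoc] using this

theorem le_normalizer_invCore : R ≤ normalizer (invCore p G R : Set X) := fun _ hr =>
  mem_normalizer_invCore h (h.norm hr) (le_normalizer hr)

theorem fixed_le_normalizer_invCore :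
    G ⊓ centralizer (R : Set X) ≤ normalizer (invCore p G R : Set X) := fun _ hg =>
  mem_normalizer_invCore h (le_normalizer hg.1) (centralizer_le_normalizer _ hg.2)

/-- A `p`-subgroup of `G` normalised by `R` and by `C_G(R)` lies in every `R`-invariant Sylow
subgroup of `G`. -/
theorem le_sylow_of_invariant {Q : Subgroup X} (hQG : Q ≤ G) (hQ : IsPGroup p Q)
    (hRQ : R ≤ normalizer (Q : Set X)) (hCQ : G ⊓ centralizer (R : Set X) ≤ normalizer (Q : Set X))
    (S : Sylow p ↥G) (hS : R ≤ normalizer (((S : Subgroup ↥G).map G.subtype : Subgroup X) : Set X)) :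
    Q ≤ (S : Subgroup ↥G).map G.subtype := by
  obtain ⟨S₀, hQS₀, hS₀⟩ :=
    CfsgLib.Solvable.exists_invariant_sylow_ge h.norm h.cop (Or.inl h.solv) p hQG hQ hRQ
  obtain ⟨c, hc, hcS⟩ :=
    CfsgLib.Solvable.exists_centralizer_conj_sylow R G h.norm h.cop (Or.inl h.solv) S₀ S hS₀ hS
  rw [← hcS, ← CfsgLib.Solvable.conj_smul_self_of_mem_normalizer (hCQ hc)]
  exact CfsgLib.Solvable.conj_smul_mono c hQS₀

/-- A `p`-subgroup of `G` normalised by `R` and by `C_G(R)` lies in the intersection. -/
theorem le_invCore {Q : Subgroup X} (hQG : Q ≤ G) (hQ : IsPGroup p Q)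
    (hRQ : R ≤ normalizer (Q : Set X)) (hCQ : G ⊓ centralizer (R : Set X) ≤ normalizer (Q : Set X)) :
    Q ≤ invCore p G R := fun _ hx => mem_invCore_iff.2 fun S hS =>
  le_sylow_of_invariant h hQG hQ hRQ hCQ S hS hx

end CfsgLib.OpFitCoprime
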