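import Cfsg.Agent.Lib.OpFitCoprime.Good
import Cfsg.Agent.Lib.Signalizer.Basic
import Cfsg.Prelude.Def_ConjugacyFunctors

/-!
A noncyclic abelian coprime group centralising every `O^p(F*(C_G(a)))` centralises `O^p(F*(G))`,
given that the lower K-infinity subgroup of the core is normal in groups of characteristic `p`.
-/

set_option autoImplicit false
set_option linter.unusedSectionVars false
set_option linter.style.haveILetI false

namespace CfsgLib.OpFitCoprime

open Subgroup Cfsg
open scoped commutatorElement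

universe u

/-- The lower K-infinity subgroup of the core is normal when the `p'`-elements centralising `O_p(G)`
are central. -/
def KInfNormal (p : ℕ) : Prop :=
  ∀ {X : Type u} [Group X] [Finite X] (G R : Subgroup X) (r : ℕ) [Fact r.Prime],
    IsPGroup r R → (Nat.card G).Coprime r → R ≤ normalizer (G : Set X) →
    (∀ x ∈ G, x ∈ centralizer (pRad p G : Set X) → (orderOf x).Coprime p → x ∈ centralizer (G : Set X)) →
    G ≤ normalizer ((inducedFunctor kInfLower (invCore p G R) : Subgroup X) : Set X)

variable {X : Type u} [Group X] [Finite X] {p : ℕ} [hp : Fact p.Prime] {G R : Subgroup X}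

theorem le_normalizer_kInf {W A : Subgroup X} (hA : A ≤ normalizer (W : Set X)) :
    A ≤ normalizer ((inducedFunctor kInfLower W : Subgroup X) : Set X) := by
  haveI : (kInfLower ↥W).Characteristic :=
    characteristic_iff_map_eq.2 fun φ => (Techniques.KSeq.map_kInf_equiv φ).1
  exact le_normalizer_map_char hA

theorem inf_centralizer_kInf_le {W : Subgroup X} (hW : IsPGroup p W) :
    W ⊓ centralizer ((inducedFunctor kInfLower W : Subgroup X) : Set X) ≤ inducedFunctor kInfLower W := by
  intro x hx
  refine ⟨⟨x, hx.1⟩, Techniques.KSeq.centralizer_kInfLower_le hW (mem_centralizer_iff.2 fun y hy => ?_), rfl⟩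
  exact Subtype.ext (mem_centralizer_iff.1 hx.2 (y : X) (mem_map_of_mem _ hy))

namespace Setup

variable (h : Setup p G R) {r : ℕ} [hr : Fact r.Prime] (hR : IsPGroup r R) (hGr : (Nat.card G).Coprime r)
  (hKI : KInfNormal.{u} p)
include h hR hGr hKI

/-- One step: the K-infinity subgroup of `P ∩ N_G(U)` is admissible. -/
theorem adm_step {a : X} (ha : a ∈ R) (hap : (orderOf a).Prime) {U : Subgroup X} (hU : Adm p G R a U) :
    let W := invCore p G R ⊓ normalizer (U : Set X)
    Adm p G R a (inducedFunctor kInfLower W) ∧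
      invCore p G R ⊓ normalizer (W : Set X) ≤ normalizer ((inducedFunctor kInfLower W : Subgroup X) : Set X) := by
  intro W
  set P := invCore p G R
  set M := G ⊓ normalizer (U : Set X) with hM
  set L := opFit p M
  set M1 := M ⊓ centralizer (L : Set X) with hM1
  have hWM : W ≤ M := le_inf (inf_le_left.trans h.core_le) inf_le_right
  have hRM : R ≤ normalizer (M : Set X) := h.le_normalizer_local hU
  have hRM1 : R ≤ normalizer (M1 : Set X) := fun ρ hρ =>
    CfsgLib.Solvable.mem_normalizer_of_conj_mem fun x hx =>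
      ⟨(mem_normalizer_iff.1 (hRM hρ) x).1 hx.1, (mem_normalizer_iff.1
        (Techniques.KSeq.normalizer_le_normalizer_centralizer _ (le_normalizer_opFit hRM hρ)) x).1 hx.2⟩
  have hRL : R ≤ centralizer (L : Set X) := h.le_centralizer_opFit ha hap hU
  have hWM1 : W ≤ M1 := le_inf hWM (le_centralizer_iff.1
    ((h.opFit_le_centralizer_core ha hap hU).trans (centralizer_le inf_le_left)))
  have hM1G : M1 ≤ G := inf_le_left.trans inf_le_left
  have hact : CoprimeAct M1 R := ⟨hRM1, h.act.cop.coprime_dvd_right (card_dvd_of_le hM1G), h.act.solv⟩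
  have hCM : G ⊓ centralizer (R : Set X) ≤ M := (h.fixed_le_fixedBy ha).trans (h.fixedBy_le_local hU)
  have hRW : R ≤ normalizer (W : Set X) := fun ρ hρ =>
    CfsgLib.Solvable.mem_normalizer_of_conj_mem fun x hx =>
      ⟨(mem_normalizer_iff.1 (le_normalizer_invCore h.act hρ) x).1 hx.1,
        (normalizer (U : Set X)).mul_mem ((normalizer (U : Set X)).mul_mem (hU.hR hρ) hx.2)
          ((normalizer (U : Set X)).inv_mem (hU.hR hρ))⟩
  have hCW : G ⊓ centralizer (R : Set X) ≤ normalizer (W : Set X) := fun g hg =>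
    CfsgLib.Solvable.mem_normalizer_of_conj_mem fun x hx =>
      ⟨(mem_normalizer_iff.1 (fixed_le_normalizer_invCore h.act hg) x).1 hx.1,
        (normalizer (U : Set X)).mul_mem ((normalizer (U : Set X)).mul_mem (hCM hg).2 hx.2)
          ((normalizer (U : Set X)).inv_mem (hCM hg).2)⟩
  have hcore : invCore p M1 R = W := by
    refine le_antisymm (le_inf ?_ ?_) (le_invCore hact hWM1 (h.isPGroup_core.to_le inf_le_left) hRW
      fun g hg => hCW ⟨hM1G hg.1, hg.2⟩)
    · refine le_invCore h.act ((invCore_le hact).trans hM1G) (isPGroup_invCore hact)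
        (le_normalizer_invCore hact) fun g hg => mem_normalizer_invCore hact ?_ (centralizer_le_normalizer _ hg.2)
      exact CfsgLib.Solvable.mem_normalizer_of_conj_mem fun x hx =>
        ⟨M.mul_mem (M.mul_mem (hCM hg) hx.1) (M.inv_mem (hCM hg)), (mem_normalizer_iff.1
          (Techniques.KSeq.normalizer_le_normalizer_centralizer _
            (le_normalizer_opFit le_normalizer (hCM hg))) x).1 hx.2⟩
    · exact (invCore_le hact).trans (inf_le_left.trans inf_le_right)
  have hTM : pRad p M ≤ pRad p M1 := by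
    refine le_pRad isPGroup_pRad (le_inf (pRad_le p M) (le_centralizer_iff.1 opFit_le_centralizer_pRad)) ?_
    exact inf_le_left.trans (le_normalizer_pRad le_normalizer)
  have hK := hKI M1 R r hR (hGr.coprime_dvd_left (card_dvd_of_le hM1G)) hRM1 fun x hx hxT hxp => by
    have hxL : x ∈ L :=
      mem_opFit (mem_fitStar_center hx.1 hx.2 (centralizer_le hTM hxT)).1 hxp
    exact mem_centralizer_iff.2 fun y hy => (mem_centralizer_iff.1 hy.2 x hxL).symm
  rw [hcore] at hK
  have hMK : M ≤ normalizer ((inducedFunctor kInfLower W : Subgroup X) : Set X) := by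
    rw [← CfsgLib.Solvable.commutator_sup_centralizer (A := R) (K := M) hRM
      (h.act.cop.coprime_dvd_right (card_dvd_of_le inf_le_left)) (Or.inl h.act.solv)]
    refine sup_le ((le_inf (CfsgLib.Solvable.commutator_le_of_le_normalizer hRM) ?_).trans hK) ?_
    · exact commutator_le_centralizer_opFit hRL
    · exact fun g hg => le_normalizer_kInf hCW ⟨hg.1.1, hg.2⟩
  have hBW : aCore p G R a ≤ W := le_inf (aCore_le p G R a) hU.hB
  refine ⟨⟨(map_subtype_le _).trans inf_le_left, (h.fixedBy_le_local hU).trans hMK,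
    le_normalizer_kInf hRW, hBW.trans (le_normalizer_kInf le_normalizer), ?_⟩, ?_⟩
  · exact (inf_le_inf_right _ hBW).trans (inf_centralizer_kInf_le (h.isPGroup_core.to_le inf_le_left))
  · exact inf_le_right.trans (le_normalizer_kInf le_rfl)

/-- Every fixed-point subgroup normalises the K-infinity subgroup of the core. -/
theorem fixedBy_le_normalizer {a : X} (ha : a ∈ R) (hap : (orderOf a).Prime) :
    Adm p G R a (inducedFunctor kInfLower (invCore p G R)) := by
  classical
  haveI : Nonempty {U : Subgroup X // Adm p G R a U} := ⟨⟨_, h.adm_aCore⟩⟩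
  obtain ⟨⟨U, hU⟩, hmax⟩ := Finite.exists_max
    (fun U : {U : Subgroup X // Adm p G R a U} =>
      Nat.card ↥(invCore p G R ⊓ normalizer (U.1 : Set X)))
  obtain ⟨hU', hN⟩ := h.adm_step hR hGr hKI ha hap hU
  by_cases hW : invCore p G R ⊓ normalizer (U : Set X) = invCore p G R
  · rwa [hW] at hU'
  exfalso
  have hlt := CfsgLib.Signalizer.isPGroup_inf_normalizer_gt h.isPGroup_core
    (lt_of_le_of_ne inf_le_left hW)
  have hle := le_inf inf_le_left hN
  have := hmax ⟨_, hU'⟩
  exact absurd ((Nat.lt_of_lt_of_le (Set.Finite.card_lt_card (Set.toFinite _) hlt)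
    (Nat.card_mono (Set.toFinite _) hle))) (not_lt.2 this)

/-- `R` centralises `O^p(F*(G))`. -/
theorem main : R ≤ centralizer (opFit p G : Set X) := by
  obtain ⟨a₀, ha₀, ha₀p⟩ : ∃ a ∈ R, (orderOf a).Prime := by
    have hne : Nat.card R ≠ 1 := fun e => h.nc (by
      haveI := Nat.card_eq_one_iff_unique.1 e |>.1
      infer_instance)
    obtain ⟨n, hn⟩ := IsPGroup.iff_card.1 hR
    have hd : r ∣ Nat.card R := by
      rw [hn]; exact dvd_pow_self r fun h0 => hne (by rw [hn, h0, pow_zero])
    obtain ⟨x, hx⟩ := exists_prime_orderOf_dvd_card' r hd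
    exact ⟨x, x.2, by rw [Subgroup.orderOf_coe, hx]; exact hr.out⟩
  set K := inducedFunctor kInfLower (invCore p G R)
  have hK : ∀ b ∈ R, b ≠ 1 → G ⊓ centralizer {b} ≤ normalizer (K : Set X) := by
    intro b hb hb1
    obtain ⟨n, hn⟩ := IsPGroup.iff_orderOf.1 hR ⟨b, hb⟩
    rw [Subgroup.orderOf_mk] at hn
    have hn0 : n ≠ 0 := fun h0 => hb1 (orderOf_eq_one_iff.1 (by rw [hn, h0, pow_zero]))
    set c := b ^ r ^ (n - 1)
    have hc : (orderOf c).Prime := by
      have : orderOf c = r := by
        rw [orderOf_pow' _ (pow_ne_zero _ hr.out.ne_zero), hn,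
          Nat.gcd_eq_right (pow_dvd_pow r (Nat.sub_le n 1)), Nat.pow_div (Nat.sub_le n 1) hr.out.pos,
          show n - (n - 1) = 1 by omega, pow_one]
      rw [this]; exact hr.out
    refine le_trans ?_ (h.fixedBy_le_normalizer hR hGr hKI (R.pow_mem hb _) hc).hH
    exact inf_le_inf_left _ fun x hx => mem_centralizer_singleton_iff.2
      ((show Commute x b from mem_centralizer_singleton_iff.1 hx).pow_right _).eq
  have hG : G ≤ normalizer (K : Set X) := by
    have := CfsgLib.Solvable.iSup_centralizer_eq h.ab h.nc h.act.norm h.act.cop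
    rw [← this]
    exact iSup₂_le fun b hb => hK b hb.1 hb.2
  have := h.le_centralizer_opFit ha₀ ha₀p (h.fixedBy_le_normalizer hR hGr hKI ha₀ ha₀p)
  rwa [inf_eq_left.2 hG] at this

end Setup

end CfsgLib.OpFitCoprime
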