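import Cfsg.Agent.Lib.OpFitCoprime.Local

/-!
Admissible `p`-subgroups `U` of the coprime core `P` for an element `a`: normalised by `C_G(a)` and
`R`, normalised by, and self-centralising in, the largest such subgroup.
-/

set_option autoImplicit false
set_option linter.unusedSectionVars false

namespace CfsgLib.OpFitCoprime

open Subgroup Cfsg
open scoped commutatorElement

variable {X : Type*} [Group X] [Finite X] {p : ℕ} [hp : Fact p.Prime] {G R : Subgroup X}

/-- The hypotheses of the theorem. -/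
structure Setup (p : ℕ) (G R : Subgroup X) : Prop where
  act : CoprimeAct G R
  ab : ∀ a ∈ R, ∀ b ∈ R, a * b = b * a
  nc : ¬ IsCyclic R
  ne2 : p ≠ 2
  loc : ∀ a ∈ R, a ≠ 1 → R ≤ centralizer (opFit p (G ⊓ centralizer {a}) : Set X)

/-- `C_G(a)`. -/
def fixedBy (G : Subgroup X) (a : X) : Subgroup X := G ⊓ centralizer {a}

/-- The largest subgroup of the core normalised by `C_G(a)` and `R`. -/
def aCore (p : ℕ) (G R : Subgroup X) (a : X) : Subgroup X :=
  sSup {U : Subgroup X | U ≤ invCore p G R ∧ fixedBy G a ≤ normalizer (U : Set X) ∧ R ≤ normalizer (U : Set X)}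

/-- Admissible subgroups. -/
structure Adm (p : ℕ) (G R : Subgroup X) (a : X) (U : Subgroup X) : Prop where
  le : U ≤ invCore p G R
  hH : fixedBy G a ≤ normalizer (U : Set X)
  hR : R ≤ normalizer (U : Set X)
  hB : aCore p G R a ≤ normalizer (U : Set X)
  cent : aCore p G R a ⊓ centralizer (U : Set X) ≤ U

theorem fixedBy_le (G : Subgroup X) (a : X) : fixedBy G a ≤ G := inf_le_left

theorem aCore_le (p : ℕ) (G R : Subgroup X) (a : X) : aCore p G R a ≤ invCore p G R :=
  sSup_le fun _ hU => hU.1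

theorem le_aCore {a : X} {U : Subgroup X} (h1 : U ≤ invCore p G R)
    (h2 : fixedBy G a ≤ normalizer (U : Set X)) (h3 : R ≤ normalizer (U : Set X)) :
    U ≤ aCore p G R a :=
  le_sSup ⟨h1, h2, h3⟩

theorem le_normalizer_aCore {a : X} {A : Subgroup X}
    (hA : ∀ U : Subgroup X, U ≤ invCore p G R → fixedBy G a ≤ normalizer (U : Set X) →
      R ≤ normalizer (U : Set X) → A ≤ normalizer (U : Set X)) :
    A ≤ normalizer (aCore p G R a : Set X) := by
  intro g hg
  refine CfsgLib.Solvable.mem_normalizer_of_conj_mem ?_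
  suffices aCore p G R a ≤ (aCore p G R a).comap (MulAut.conj g).toMonoidHom from fun x hx => this hx
  refine sSup_le fun U hU x hx => ?_
  exact le_aCore hU.1 hU.2.1 hU.2.2 ((mem_normalizer_iff.1 (hA U hU.1 hU.2.1 hU.2.2 hg) x).1 hx)

namespace Setup

variable (h : Setup p G R) {a : X}
include h

theorem isPGroup_core : IsPGroup p (invCore p G R) := isPGroup_invCore h.act

theorem core_le : invCore p G R ≤ G := invCore_le h.act

theorem le_normalizer_fixedBy (ha : a ∈ R) : R ≤ normalizer (fixedBy G a : Set X) := by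
  intro ρ hρ
  refine CfsgLib.Solvable.mem_normalizer_of_conj_mem fun x hx => ⟨(mem_normalizer_iff.1 (h.act.norm hρ) x).1 hx.1,
    mem_centralizer_singleton_iff.2 ?_⟩
  have h1 : x * a = a * x := mem_centralizer_singleton_iff.1 hx.2
  have h2 : Commute ρ a := h.ab ρ hρ a ha
  calc ρ * x * ρ⁻¹ * a = ρ * x * (ρ⁻¹ * a) := by group
    _ = ρ * (x * a) * ρ⁻¹ := by rw [h2.inv_left.eq]; group
    _ = ρ * a * x * ρ⁻¹ := by rw [h1]; group
    _ = a * (ρ * x * ρ⁻¹) := by rw [h2.eq]; group

theorem fixed_le_fixedBy (ha : a ∈ R) : G ⊓ centralizer (R : Set X) ≤ fixedBy G a :=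
  inf_le_inf_left _ (centralizer_le (Set.singleton_subset_iff.2 ha))

theorem coprime_fixedBy : (Nat.card R).Coprime (Nat.card (fixedBy G a)) :=
  h.act.cop.coprime_dvd_right (card_dvd_of_le inf_le_left)

theorem le_invCore' (ha : a ∈ R) {Q : Subgroup X} (hQG : Q ≤ G) (hQ : IsPGroup p Q)
    (hH : fixedBy G a ≤ normalizer (Q : Set X)) (hR : R ≤ normalizer (Q : Set X)) :
    Q ≤ invCore p G R :=
  le_invCore h.act hQG hQ hR ((h.fixed_le_fixedBy ha).trans hH)

theorem pRad_le_aCore (ha : a ∈ R) : pRad p (fixedBy G a) ≤ aCore p G R a :=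
  le_aCore
    (h.le_invCore' ha ((pRad_le p _).trans inf_le_left) isPGroup_pRad
      (le_normalizer_pRad le_normalizer) (le_normalizer_pRad (h.le_normalizer_fixedBy ha)))
    (le_normalizer_pRad le_normalizer) (le_normalizer_pRad (h.le_normalizer_fixedBy ha))

theorem adm_aCore : Adm p G R a (aCore p G R a) where
  le := aCore_le p G R a
  hH := le_normalizer_aCore fun _ _ h2 _ => h2
  hR := le_normalizer_aCore fun _ _ _ h3 => h3
  hB := le_normalizer
  cent := inf_le_left

/-- A `p'`-element of `C_G(a)` centralising an admissible `U` centralises `O_p(C_G(a))`. -/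
theorem centralizes_pRad (ha : a ∈ R) {U : Subgroup X} (hU : Adm p G R a U) {x : X}
    (hx : x ∈ fixedBy G a) (hxp : (orderOf x).Coprime p) (hxU : x ∈ centralizer (U : Set X)) :
    x ∈ centralizer (pRad p (fixedBy G a) : Set X) := by
  have hcomm : ∀ y ∈ U, Commute x y := fun y hy => (mem_centralizer_iff.1 hxU y hy).symm
  have hall := CfsgLib.Cores.axb (P := U) (Q := aCore p G R a)
    (h.isPGroup_core.to_le hU.le) (h.isPGroup_core.to_le (aCore_le p G R a))
    ((le_aCore hU.le hU.hH hU.hR).trans le_normalizer) (h.adm_aCore.hH hx) hxp hcomm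
    (fun c hc hcU => hcomm c (hU.cent ⟨hc, mem_centralizer_iff.2 fun y hy => (hcU y hy).symm.eq⟩))
  exact mem_centralizer_iff.2 fun t ht => (hall t (h.pRad_le_aCore ha ht)).symm.eq

end Setup

end CfsgLib.OpFitCoprime
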