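import Cfsg.Agent.Lib.OddLocal.FrobeniusAction
import Cfsg.Agent.Lib.Solvable.Basic

/-!
An element `a` of prime order normalising a `p'`-group `Y` and a `p`-group `T` on which `Y` acts:
if the fixed points of `a` on `Y` centralise `T` and those on `T` are centralised by `Y`, then `Y`
centralises `T`.
-/

set_option autoImplicit false
set_option linter.unusedSectionVars false

namespace CfsgLib.OpFitCoprime

open Subgroup
open scoped commutatorElement

variable {X : Type*} [Group X] [Finite X]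

theorem le_centralizer_of_fixed {p : ℕ} [hp : Fact p.Prime] (hp2 : p ≠ 2) {Y T : Subgroup X} {a : X}
    (hT : IsPGroup p T) (hYp : (Nat.card Y).Coprime p) (ha : (orderOf a).Prime)
    (hap : orderOf a ≠ p) (hYa : (orderOf a).Coprime (Nat.card Y))
    (hYT : Y ≤ normalizer (T : Set X)) (haT : a ∈ normalizer (T : Set X))
    (haY : a ∈ normalizer (Y : Set X))
    (hfixY : ∀ y ∈ Y, Commute a y → y ∈ centralizer (T : Set X))
    (hfixT : ∀ t ∈ T, Commute a t → ∀ y ∈ Y, Commute y t) :
    Y ≤ centralizer (T : Set X) := by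
  classical
  by_cases haC : a ∈ centralizer (T : Set X)
  · intro y hy
    refine mem_centralizer_iff.2 fun t ht => ?_
    exact (hfixT t ht (mem_centralizer_iff.1 haC t ht).symm y hy).symm
  set K : Subgroup X := Y ⊓ centralizer (T : Set X) with hK
  set H : Subgroup X := normalizer (T : Set X) ⊓ normalizer (K : Set X) with hH
  have hnK : ∀ g ∈ normalizer (T : Set X), g ∈ normalizer (Y : Set X) → g ∈ normalizer (K : Set X) := by
    intro g hgT hgY
    refine CfsgLib.Solvable.mem_normalizer_of_conj_mem fun k hk => ⟨(mem_normalizer_iff.1 hgY k).1 hk.1,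
      mem_centralizer_iff.2 fun t ht => ?_⟩
    have ht' : g⁻¹ * t * g ∈ T := (mem_normalizer_iff.1 hgT _).2 (by simpa [mul_assoc] using ht)
    calc t * (g * k * g⁻¹) = g * ((g⁻¹ * t * g) * k) * g⁻¹ := by group
      _ = g * (k * (g⁻¹ * t * g)) * g⁻¹ := by rw [mem_centralizer_iff.1 hk.2 _ ht']
      _ = g * k * g⁻¹ * t := by group
  have hYH : Y ≤ H := fun y hy => ⟨hYT hy, hnK y (hYT hy) (le_normalizer hy)⟩
  have hTH : T ≤ H := fun t ht => ⟨le_normalizer ht, CfsgLib.Solvable.mem_normalizer_of_conj_mem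
    fun k hk => by rw [mem_centralizer_iff.1 hk.2 t ht, mul_inv_cancel_right]; exact hk⟩
  have haH : a ∈ H := ⟨haT, hnK a haT haY⟩
  haveI : (K.subgroupOf H).Normal :=
    (normal_subgroupOf_iff_le_normalizer (inf_le_left.trans hYH)).2 inf_le_right
  set π := QuotientGroup.mk' (K.subgroupOf H) with hπ
  have hker : ∀ h : H, π h = 1 ↔ (h : X) ∈ K := fun h => QuotientGroup.eq_one_iff h
  set S := (Y.subgroupOf H).map π
  set T' := (T.subgroupOf H).map π
  set a' := π ⟨a, haH⟩ with ha'
  have ha1 : a' ≠ 1 := fun h => haC ((hker _).1 h).2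
  have hordd : orderOf a' ∣ orderOf a := by
    have := orderOf_map_dvd π ⟨a, haH⟩
    rwa [Subgroup.orderOf_mk] at this
  have hord : orderOf a' = orderOf a :=
    (ha.eq_one_or_self_of_dvd _ hordd).resolve_left (mt orderOf_eq_one_iff.1 ha1)
  have hnorm : ∀ {Z : Subgroup X}, a ∈ normalizer (Z : Set X) →
      a' ∈ normalizer (((Z.subgroupOf H).map π : Subgroup _) : Set _) := fun {Z} hZ =>
    le_normalizer_map π (mem_map_of_mem π (mem_normalizer_iff.2 fun h =>
      mem_normalizer_iff.1 hZ (h : X)))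
  have hST : S ≤ normalizer (T' : Set _) := by
    refine le_trans (map_mono fun h hh => ?_) (le_normalizer_map π)
    exact mem_normalizer_iff.2 fun h' => mem_normalizer_iff.1 (hYT hh) (h' : X)
  have hScop : (Nat.card S).Coprime p := by
    refine hYp.coprime_dvd_left ((card_map_dvd _ _).trans ?_)
    rw [Nat.card_congr (subgroupOfEquivOfLe hYH).toEquiv]
  have hTp : IsPGroup p T' := (hT.of_equiv (subgroupOfEquivOfLe hTH).symm).map π
  have hfree : ∀ u ∈ S, u * a' = a' * u → u = 1 := by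
    rintro _ ⟨y, hy, rfl⟩ hc
    have hk : (y : X)⁻¹ * (a * y * a⁻¹) ∈ K := by
      refine (hker (y⁻¹ * (⟨a, haH⟩ * y * ⟨a, haH⟩⁻¹))).1 ?_
      rw [map_mul, map_inv, map_mul, map_mul, map_inv, ← ha', ← hc, mul_inv_cancel_right, inv_mul_cancel]
    have hKn : zpowers a ≤ normalizer (K : Set X) := zpowers_le.2 haH.2
    have hcop : (Nat.card (zpowers a)).Coprime (Nat.card K) := by
      rw [Nat.card_zpowers]
      exact hYa.coprime_dvd_right (card_dvd_of_le inf_le_left)
    have hu : ∀ b ∈ zpowers a, ⁅b, (y : X)⁆ ∈ K := by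
      intro b hb
      have hyK : (y : X) ∈ normalizer (K : Set X) := y.2.2
      have haK : a * (y : X) * a⁻¹ * (y : X)⁻¹ ∈ K := by
        have := (mem_normalizer_iff.1 hyK _).1 hk
        rw [show (y : X) * ((y : X)⁻¹ * (a * y * a⁻¹)) * (y : X)⁻¹ = a * y * a⁻¹ * (y : X)⁻¹ by group] at this
        exact this
      obtain ⟨i, rfl⟩ := (isOfFinOrder_of_finite a).mem_powers_iff_mem_zpowers.2 hb
      show ⁅a ^ i, (y : X)⁆ ∈ K
      induction i with
      | zero => rw [pow_zero, commutatorElement_one_left]; exact one_mem _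
      | succ i ih =>
        rw [show ⁅a ^ (i + 1), (y : X)⁆ = a ^ i * ⁅a, (y : X)⁆ * (a ^ i)⁻¹ * ⁅a ^ i, (y : X)⁆ by
          rw [pow_succ, commutatorElement_def, commutatorElement_def, commutatorElement_def]; group]
        exact mul_mem ((mem_normalizer_iff.1 (pow_mem haH.2 i) _).1
          (by rw [commutatorElement_def]; exact haK)) (ih (pow_mem (mem_zpowers a) i))
    obtain ⟨n, hn, hnc⟩ := CfsgLib.Solvable.exists_mul_mem_centralizer (zpowers a) K hKn hcop
      (Or.inl (Group.isSolvable_of_comm fun x y => Subtype.ext (by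
        obtain ⟨i, hi⟩ := mem_zpowers_iff.1 x.2
        obtain ⟨j, hj⟩ := mem_zpowers_iff.1 y.2
        show (x : X) * y = y * x
        rw [← hi, ← hj, zpow_mul_comm]))) (y : X) hu
    have hyn : n * (y : X) ∈ Y := mul_mem hn.1 hy
    have := hfixY _ hyn (mem_centralizer_iff.1 hnc a (mem_zpowers a))
    refine (hker y).2 ⟨hy, ?_⟩
    simpa using (centralizer (T : Set X)).mul_mem ((centralizer (T : Set X)).inv_mem hn.2) this
  have hres := CfsgLib.OddLocal.commute_of_frobenius_fixed (S := S) (T := T') (a := a') hp2 hTp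
    (hord ▸ ha) (hord ▸ hap) hST (hnorm haT) (hnorm haY) hfree hScop ?_
  · intro y hy
    refine mem_centralizer_iff.2 fun t ht => ?_
    have h := mem_centralizer_iff.1 (hres (mem_map_of_mem π (K := Y.subgroupOf H) (x := ⟨y, hYH hy⟩) hy))
      _ (mem_map_of_mem π (K := T.subgroupOf H) (x := ⟨t, hTH ht⟩) ht)
    rw [← map_mul, ← map_mul, ← inv_mul_eq_one, ← map_inv, ← map_mul, hker] at h
    -- the commutator lies in `T ∩ Y`
    have hmem : (t * y)⁻¹ * (y * t) ∈ K := h
    have hT' : (t * y)⁻¹ * (y * t) ∈ T := by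
      have h1 : y⁻¹ * t⁻¹ * y ∈ T :=
        (mem_normalizer_iff.1 (hYT hy) _).2 (by simpa [mul_assoc] using inv_mem ht)
      simpa [mul_assoc] using mul_mem h1 ht
    have : (t * y)⁻¹ * (y * t) = 1 := by
      obtain ⟨k, hk⟩ := IsPGroup.iff_orderOf.1 hT ⟨_, hT'⟩
      rw [Subgroup.orderOf_mk] at hk
      rw [← orderOf_eq_one_iff]
      exact Nat.eq_one_of_dvd_coprimes (hYp.pow_right k)
        (Y.orderOf_dvd_natCard hmem.1) (by rw [hk])
    exact inv_mul_eq_one.1 this
  · rintro _ ⟨x, hx, rfl⟩ - hc u ⟨y, hy, rfl⟩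
    have hcx : Commute a (x : X) := by
      have h : π (x⁻¹ * (⟨a, haH⟩ * x * ⟨a, haH⟩⁻¹)) = 1 := by
        rw [map_mul, map_inv, map_mul, map_mul, map_inv, ← ha', hc, mul_inv_cancel_right, inv_mul_cancel]
      have hmK := (hker _).1 h
      have hmT : (x : X)⁻¹ * (a * x * a⁻¹) ∈ T :=
        mul_mem (inv_mem hx) ((mem_normalizer_iff.1 haT _).1 hx)
      have : (x : X)⁻¹ * (a * x * a⁻¹) = 1 := by
        obtain ⟨k, hk⟩ := IsPGroup.iff_orderOf.1 hT ⟨_, hmT⟩
        rw [Subgroup.orderOf_mk] at hk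
        rw [← orderOf_eq_one_iff]
        exact Nat.eq_one_of_dvd_coprimes (hYp.pow_right k)
          (Y.orderOf_dvd_natCard hmK.1) (by rw [hk])
      exact mul_inv_eq_iff_eq_mul.1 (inv_mul_eq_one.1 this).symm
    rw [← map_mul, ← map_mul]
    exact congrArg π (Subtype.ext (hfixT _ hx hcx _ hy).eq)

end CfsgLib.OpFitCoprime
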