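import Cfsg.Agent.Lib.OpFitCoprime.Adm
import Cfsg.Agent.Lib.OpFitCoprime.Frob
import Cfsg.Agent.Lib.Solvable.Generation
import Cfsg.Agent.Lib.Solvable.Product

/-!
For an admissible `U`, `R` centralises `O^p(F*(N_G(U)))`, which centralises `P ∩ N_G(U)`.
-/

set_option autoImplicit false
set_option linter.unusedSectionVars false
set_option linter.style.haveILetI false

namespace CfsgLib.OpFitCoprime

open Subgroup Cfsg
open scoped commutatorElement Pointwise

variable {X : Type*} [Group X] [Finite X] {p : ℕ} [hp : Fact p.Prime] {G R : Subgroup X}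

namespace Setup

variable (h : Setup p G R) {a : X} {U : Subgroup X}
include h

theorem fixedBy_le_local (hU : Adm p G R a U) : fixedBy G a ≤ G ⊓ normalizer (U : Set X) :=
  le_inf inf_le_left hU.hH

theorem le_normalizer_local (hU : Adm p G R a U) :
    R ≤ normalizer ((G ⊓ normalizer (U : Set X) : Subgroup X) : Set X) := fun ρ hρ =>
  CfsgLib.Solvable.mem_normalizer_of_conj_mem fun x hx =>
    ⟨(mem_normalizer_iff.1 (h.act.norm hρ) x).1 hx.1,
      (normalizer (U : Set X)).mul_mem ((normalizer (U : Set X)).mul_mem (hU.hR hρ) hx.2)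
        ((normalizer (U : Set X)).inv_mem (hU.hR hρ))⟩

theorem opFit_le_centralizer (hU : Adm p G R a U) :
    opFit p (G ⊓ normalizer (U : Set X)) ≤ centralizer (U : Set X) :=
  opFit_le_centralizer_pRad.trans (centralizer_le (le_pRad (h.isPGroup_core.to_le hU.le)
    (le_inf (hU.le.trans h.core_le) le_normalizer) inf_le_right))

/-- For `l` in `O^p(F*(N_G(U)))` commuting with `a`, `R` moves `l` only inside `U`. -/
theorem commutator_mem (ha : a ∈ R) (ha1 : a ≠ 1) (hU : Adm p G R a U) :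
    ⁅opFit p (G ⊓ normalizer (U : Set X)) ⊓ fixedBy G a, R⁆ ≤ U := by
  set L := opFit p (G ⊓ normalizer (U : Set X))
  set H := fixedBy G a
  set D := L ⊓ H
  set N := D ⊓ centralizer (opFit p H : Set X)
  have hRH : R ≤ normalizer (H : Set X) := h.le_normalizer_fixedBy ha
  have hnorm : ∀ A : Subgroup X, A ≤ normalizer ((G ⊓ normalizer (U : Set X) : Subgroup X) : Set X) →
      A ≤ normalizer (H : Set X) → A ≤ normalizer (D : Set X) := fun A h1 h2 g hg =>
    CfsgLib.Solvable.mem_normalizer_of_conj_mem fun x hx =>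
      ⟨(mem_normalizer_iff.1 (le_normalizer_opFit h1 hg) x).1 hx.1, (mem_normalizer_iff.1 (h2 hg) x).1 hx.2⟩
  have hRD : R ≤ normalizer (D : Set X) := hnorm R (h.le_normalizer_local hU) hRH
  have hHD : H ≤ normalizer (D : Set X) :=
    hnorm H ((h.fixedBy_le_local hU).trans le_normalizer) le_normalizer
  have hHN : H ≤ normalizer (N : Set X) := fun g hg =>
    CfsgLib.Solvable.mem_normalizer_of_conj_mem fun d hd =>
      ⟨(mem_normalizer_iff.1 (hHD hg) d).1 hd.1,
        (mem_normalizer_iff.1 (Techniques.KSeq.normalizer_le_normalizer_centralizer _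
          (le_normalizer_opFit le_normalizer hg)) d).1 hd.2⟩
  have hLU := h.opFit_le_centralizer hU
  have hp' : ∀ x ∈ N, (orderOf x).Coprime p → x ∈ opFit p H := fun x hx hxp =>
    mem_opFit (mem_fitStar_center hx.1.2 hx.2 (h.centralizes_pRad ha hU hx.1.2 hxp (hLU hx.1.1))).1 hxp
  have hnil : Group.IsNilpotent N := isNilpotent_of_pPrime_central (p := p) fun x hx hxp =>
    mem_centralizer_iff.2 fun y hy => (mem_centralizer_iff.1 hy.2 x (hp' x hx hxp)).symm
  have hDN : ⁅D, R⁆ ≤ N := le_inf (CfsgLib.Solvable.commutator_le_of_le_normalizer hRD)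
    ((commutator_mono inf_le_right le_rfl).trans (commutator_le_centralizer_opFit (h.loc a ha ha1)))
  have hT : ⁅D, R⁆ ≤ pRad p H := by
    rw [← CfsgLib.Solvable.commutator_commutator_self hRD
      (h.coprime_fixedBy.coprime_dvd_right (card_dvd_of_le inf_le_right)) (Or.inl h.act.solv)]
    exact (commutator_mono hDN le_rfl).trans
      (commutator_le_pRad hRH (h.loc a ha ha1) (inf_le_left.trans inf_le_right) hHN hnil hp')
  exact fun x hx => hU.cent ⟨h.pRad_le_aCore ha (hT hx), hLU (hDN hx).1.1⟩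

/-- `P ∩ O^p(F*(N_G(U)))` lies in `U`. -/
theorem core_inf_le (ha : a ∈ R) (ha1 : a ≠ 1) (hU : Adm p G R a U) :
    invCore p G R ⊓ opFit p (G ⊓ normalizer (U : Set X)) ≤ U := by
  set M := G ⊓ normalizer (U : Set X)
  set L := opFit p M
  set V := invCore p G R ⊓ L
  have hLG : L ≤ G := (opFit_le p M).trans inf_le_left
  have hLU := h.opFit_le_centralizer hU
  have hRM : R ≤ normalizer (M : Set X) := h.le_normalizer_local hU
  have hRL : R ≤ normalizer (L : Set X) := le_normalizer_opFit hRM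
  have hactL : CoprimeAct L R := ⟨hRL, h.act.cop.coprime_dvd_right (card_dvd_of_le hLG), h.act.solv⟩
  have hzR : zpowers a ≤ R := zpowers_le.2 ha
  have hsolv : Group.IsSolvable (zpowers a) := CfsgLib.Cores.isSolvable_of_le hzR h.act.solv
  -- every `a`-invariant Sylow subgroup of `L` is `R`-invariant
  have hinv : ∀ S : Sylow p ↥L, zpowers a ≤ normalizer (((S : Subgroup ↥L).map L.subtype : Subgroup X) : Set X) →
      R ≤ normalizer (((S : Subgroup ↥L).map L.subtype : Subgroup X) : Set X) := by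
    intro S hS
    obtain ⟨S₀, hS₀⟩ := CfsgLib.Solvable.exists_invariant_sylow R L hRL hactL.cop (Or.inl h.act.solv) p
    obtain ⟨l, hl, hlS⟩ := CfsgLib.Solvable.exists_centralizer_conj_sylow (zpowers a) L (hzR.trans hRL)
      (hactL.cop.coprime_dvd_left (card_dvd_of_le hzR)) (Or.inl hsolv) S₀ S (hzR.trans hS₀) hS
    intro ρ hρ
    have hlD : l ∈ L ⊓ fixedBy G a := ⟨hl.1, hLG hl.1,
      mem_centralizer_singleton_iff.2 ((mem_centralizer_iff.1 hl.2 a (mem_zpowers a)).symm)⟩
    have hzL : ⁅l⁻¹, ρ⁆ ∈ L :=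
      CfsgLib.Solvable.commutator_le_of_le_normalizer hRL (commutator_mem_commutator (L.inv_mem hl.1) hρ)
    have hzU : ⁅l⁻¹, ρ⁆ ∈ U :=
      h.commutator_mem ha ha1 hU (commutator_mem_commutator (g₁ := l⁻¹) ((L ⊓ fixedBy G a).inv_mem hlD) hρ)
    -- it is central in `L`
    have hz : ⁅l⁻¹, ρ⁆ ∈ normalizer (((S₀ : Subgroup ↥L).map L.subtype : Subgroup X) : Set X) := by
      refine centralizer_le_normalizer _ (mem_centralizer_iff.2 fun y hy => ?_)
      exact (mem_centralizer_iff.1 (hLU (map_subtype_le _ hy)) _ hzU).symm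
    have e : ρ * l = l * (⁅l⁻¹, ρ⁆ * ρ) := by rw [commutatorElement_def]; group
    rw [CfsgLib.Solvable.mem_normalizer_iff_conj_smul, ← hlS, CfsgLib.Solvable.conj_smul_conj_smul, e,
      ← CfsgLib.Solvable.conj_smul_conj_smul]
    rw [CfsgLib.Solvable.conj_smul_self_of_mem_normalizer
      ((normalizer _).mul_mem hz (hS₀ hρ))]
  have hVR : R ≤ normalizer (V : Set X) := fun g hg =>
    CfsgLib.Solvable.mem_normalizer_of_conj_mem fun x hx =>
      ⟨(mem_normalizer_iff.1 (le_normalizer_invCore h.act hg) x).1 hx.1, (mem_normalizer_iff.1 (hRL hg) x).1 hx.2⟩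
  have hCM : G ⊓ centralizer (R : Set X) ≤ M := (h.fixed_le_fixedBy ha).trans (h.fixedBy_le_local hU)
  have hVC : L ⊓ centralizer (R : Set X) ≤ normalizer (V : Set X) := fun g hg =>
    CfsgLib.Solvable.mem_normalizer_of_conj_mem fun x hx =>
      ⟨(mem_normalizer_iff.1 (fixed_le_normalizer_invCore h.act ⟨hLG hg.1, hg.2⟩) x).1 hx.1,
        (mem_normalizer_iff.1 (le_normalizer (H := L) hg.1) x).1 hx.2⟩
  have hVp : IsPGroup p V := h.isPGroup_core.to_le inf_le_left
  -- `V` is the core of `L`, and it is normalised by `C_G(a)`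
  have hVeq : invCore p L R ≤ V := by
    refine le_inf (le_invCore h.act ((invCore_le hactL).trans hLG) (isPGroup_invCore hactL)
      (le_normalizer_invCore hactL) fun g hg => mem_normalizer_invCore hactL
        (le_normalizer_opFit le_normalizer (hCM hg)) (centralizer_le_normalizer _ hg.2)) (invCore_le hactL)
  have hHV : fixedBy G a ≤ normalizer (V : Set X) := by
    intro g hg
    refine CfsgLib.Solvable.mem_normalizer_of_conj_mem fun x hx => hVeq (mem_invCore_iff.2 fun S hS => ?_)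
    have hgM := h.fixedBy_le_local hU hg
    have hgL : g ∈ normalizer (L : Set X) := le_normalizer_opFit le_normalizer hgM
    have hle : MulAut.conj g⁻¹ • (S : Subgroup ↥L).map L.subtype ≤ L :=
      CfsgLib.Solvable.conj_smul_le_iff.2 fun y hy =>
        CfsgLib.Solvable.normalizer_conj_mem ((normalizer _).inv_mem hgL) (map_subtype_le _ hy)
    obtain ⟨Q, hQ⟩ := CfsgLib.Solvable.exists_sylow_map_eq hle S
      (by rw [CfsgLib.Solvable.card_conj_smul, CfsgLib.Solvable.card_sylow_map])
    have hQa : zpowers a ≤ normalizer (((Q : Subgroup ↥L).map L.subtype : Subgroup X) : Set X) := by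
      rw [hQ, zpowers_le]
      refine CfsgLib.Solvable.mem_normalizer_of_conj_mem fun y hy => ?_
      rw [CfsgLib.Solvable.mem_conj_smul_iff] at hy ⊢
      have hga : g * a = a * g := mem_centralizer_singleton_iff.1 hg.2
      have := (mem_normalizer_iff.1 (hS ha) _).1 hy
      rw [inv_inv] at this ⊢
      have e : g * (a * y * a⁻¹) * g⁻¹ = a * (g * y * g⁻¹) * a⁻¹ := by
        calc g * (a * y * a⁻¹) * g⁻¹ = (g * a) * y * (g * a)⁻¹ := by group
          _ = (a * g) * y * (a * g)⁻¹ := by rw [hga]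
          _ = a * (g * y * g⁻¹) * a⁻¹ := by group
      rw [e]; exact this
    have := le_sylow_of_invariant hactL inf_le_right hVp hVR hVC Q (hinv Q hQa) hx
    rw [hQ, CfsgLib.Solvable.mem_conj_smul_iff] at this
    simpa [mul_assoc] using this
  exact fun x hx => hU.cent ⟨le_aCore inf_le_left hHV hVR hx, hLU hx.2⟩

/-- A `p'`-element of `O^p(F*(N_G(U)))` normalising `P` and commuting with `c ∈ P ∩ N_G(U)`. -/
theorem commute_core_local (ha : a ∈ R) (ha1 : a ≠ 1) (hU : Adm p G R a U) {x : X}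
    (hx : x ∈ opFit p (G ⊓ normalizer (U : Set X))) (hxp : (orderOf x).Coprime p)
    {Q : Subgroup X} (hQ : Q ≤ invCore p G R) (hxQ : x ∈ normalizer (Q : Set X))
    {c : X} (hc : c ∈ Q) (hcN : c ∈ normalizer (U : Set X)) : Commute c x := by
  have hcM : c ∈ G ⊓ normalizer (U : Set X) := ⟨(hQ.trans h.core_le) hc, hcN⟩
  set L := opFit p (G ⊓ normalizer (U : Set X))
  have hcL : c ∈ normalizer (L : Set X) := le_normalizer_opFit le_normalizer hcM
  set z := x⁻¹ * (c * x * c⁻¹) with hz
  have hzL : z ∈ L := L.mul_mem (L.inv_mem hx) ((mem_normalizer_iff.1 hcL x).1 hx)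
  have hzQ : z ∈ Q := by
    have : x⁻¹ * c * x ∈ Q := (mem_normalizer_iff.1 hxQ _).2 (by simpa [mul_assoc] using hc)
    rw [show z = (x⁻¹ * c * x) * c⁻¹ by rw [hz]; group]
    exact Q.mul_mem this (Q.inv_mem hc)
  have hzU : z ∈ U := h.core_inf_le ha ha1 hU ⟨hQ hzQ, hzL⟩
  exact commute_of_mem (h.isPGroup_core.to_le hQ) hxp hzQ
    (mem_centralizer_iff.1 (h.opFit_le_centralizer hU hx) z hzU).symm

/-- A `p'`-element of `O^p(F*(N_G(U)))` commuting with `R` centralises `P`. -/
theorem fixed_centralizes_core (ha : a ∈ R) (ha1 : a ≠ 1) (hU : Adm p G R a U) {x : X}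
    (hx : x ∈ opFit p (G ⊓ normalizer (U : Set X))) (hxp : (orderOf x).Coprime p)
    (hxR : x ∈ centralizer (R : Set X)) : x ∈ centralizer (invCore p G R : Set X) := by
  have hxG : x ∈ G := ((opFit_le p _).trans inf_le_left) hx
  have hxN : x ∈ normalizer (invCore p G R : Set X) := fixed_le_normalizer_invCore h.act ⟨hxG, hxR⟩
  have hxU : ∀ y ∈ U, Commute x y := fun y hy =>
    (mem_centralizer_iff.1 (h.opFit_le_centralizer hU hx) y hy).symm
  have hall := CfsgLib.Cores.axb (P := U) (Q := invCore p G R) (h.isPGroup_core.to_le hU.le)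
    h.isPGroup_core (hU.le.trans le_normalizer) hxN hxp hxU (fun c hc hcU => by
      refine (h.commute_core_local ha ha1 hU hx hxp le_rfl hxN hc ?_).symm
      exact centralizer_le_normalizer _ (mem_centralizer_iff.2 fun y hy => (hcU y hy).symm.eq))
  exact mem_centralizer_iff.2 fun t ht => (hall t ht).symm.eq

/-- A `p'`-element of `O^p(F*(N_G(U)))` commuting with `a` commutes with `R`. -/
theorem fixed_of_fixedBy (ha : a ∈ R) (ha1 : a ≠ 1) (hU : Adm p G R a U) {x : X}
    (hx : x ∈ opFit p (G ⊓ normalizer (U : Set X))) (hxp : (orderOf x).Coprime p)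
    (hxa : x ∈ fixedBy G a) : x ∈ centralizer (R : Set X) :=
  mem_centralizer_iff.2 fun ρ hρ =>
    (commute_of_centralizes_pRad (h.le_normalizer_fixedBy ha) (h.loc a ha ha1) h.coprime_fixedBy
      h.act.solv hxa hxp (h.centralizes_pRad ha hU hxa hxp (h.opFit_le_centralizer hU hx)) hρ).eq

/-- An `R`-invariant `q`-subgroup of `O^p(F*(N_G(U)))`, `q ≠ p`, is centralised by `R`. -/
theorem le_centralizer_of_qGroup (ha : a ∈ R) (hap : (orderOf a).Prime) (hU : Adm p G R a U)
    {q : ℕ} [hq : Fact q.Prime] (hqp : q ≠ p) {Q : Subgroup X}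
    (hQL : Q ≤ opFit p (G ⊓ normalizer (U : Set X))) (hQ : IsPGroup q Q)
    (hRQ : R ≤ normalizer (Q : Set X)) : Q ≤ centralizer (R : Set X) := by
  have ha1 : a ≠ 1 := fun e => by rw [e, orderOf_one] at hap; exact Nat.not_prime_one hap
  set M := G ⊓ normalizer (U : Set X)
  set L := opFit p M
  have hLG : L ≤ G := (opFit_le p M).trans inf_le_left
  have hgen := CfsgLib.Solvable.iSup_centralizer_eq h.ab h.nc hRQ
    (h.act.cop.coprime_dvd_right (card_dvd_of_le (hQL.trans hLG)))
  rw [← hgen]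
  refine iSup₂_le fun b hb => ?_
  set Y := Q ⊓ centralizer {b}
  set T := pRad p (fixedBy G b)
  have hYH : Y ≤ fixedBy G b := inf_le_inf_right _ (hQL.trans hLG)
  have hRY : R ≤ normalizer (Y : Set X) := fun ρ hρ =>
    CfsgLib.Solvable.mem_normalizer_of_conj_mem fun y hy =>
      ⟨(mem_normalizer_iff.1 (hRQ hρ) y).1 hy.1,
        ((mem_normalizer_iff.1 (h.le_normalizer_fixedBy hb.1 hρ) y).1 (hYH hy)).2⟩
  have hYq : IsPGroup q Y := hQ.to_le inf_le_left
  have hYp : (Nat.card Y).Coprime p := by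
    obtain ⟨k, hk⟩ := IsPGroup.iff_card.1 hYq
    rw [hk]; exact Nat.Coprime.pow_left k ((Nat.coprime_primes hq.out hp.out).2 hqp)
  have hYo : ∀ y ∈ Y, (orderOf y).Coprime p := fun y hy => hYp.coprime_dvd_left (Y.orderOf_dvd_natCard hy)
  have hTP : T ≤ invCore p G R := (h.pRad_le_aCore hb.1).trans (aCore_le p G R b)
  suffices hYT : Y ≤ centralizer (T : Set X) from fun y hy => mem_centralizer_iff.2 fun ρ hρ =>
    (commute_of_centralizes_pRad (h.le_normalizer_fixedBy hb.1) (h.loc b hb.1 hb.2) h.coprime_fixedBy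
      h.act.solv (hYH hy) (hYo y hy) (hYT hy) hρ).eq
  by_cases hT1 : T = ⊥
  · intro y _
    refine mem_centralizer_iff.2 fun t ht => ?_
    rw [show t = 1 from mem_bot.1 (hT1 ▸ ht)]; simp
  have hao : (orderOf a).Coprime (Nat.card G) := h.act.cop.coprime_dvd_left (R.orderOf_dvd_natCard ha)
  have hpa : orderOf a ≠ p := by
    intro e
    obtain ⟨k, hk⟩ := IsPGroup.iff_card.1 (isPGroup_pRad (p := p) (H := fixedBy G b))
    have hk0 : k ≠ 0 := fun h0 => hT1 (Subgroup.card_eq_one.1 (by show Nat.card T = 1; rw [hk, h0, pow_zero]))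
    have hd : p ∣ Nat.card G :=
      (hk ▸ dvd_pow_self p hk0 : p ∣ Nat.card T).trans
        (card_dvd_of_le ((pRad_le p _).trans inf_le_left))
    exact hp.out.ne_one (Nat.eq_one_of_dvd_coprimes hao (by rw [e]) hd)
  refine le_centralizer_of_fixed (a := a) h.ne2 isPGroup_pRad hYp hap hpa
    (hao.coprime_dvd_right (card_dvd_of_le (hYH.trans inf_le_left)))
    (hYH.trans (le_normalizer_pRad le_normalizer)) (le_normalizer_pRad (h.le_normalizer_fixedBy hb.1) ha)
    (hRY ha) ?_ ?_
  · intro y hy hay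
    have hyL : y ∈ L := hQL hy.1
    have hyR := h.fixed_of_fixedBy ha ha1 hU hyL (hYo y hy)
      ⟨hLG hyL, mem_centralizer_singleton_iff.2 hay.eq.symm⟩
    exact centralizer_le hTP (h.fixed_centralizes_core ha ha1 hU hyL (hYo y hy) hyR)
  · intro t ht hat y hy
    have htH : t ∈ fixedBy G a :=
      ⟨(pRad_le p _ ht).1, mem_centralizer_singleton_iff.2 hat.eq.symm⟩
    exact (h.commute_core_local ha ha1 hU (hQL hy.1) (hYo y hy) hTP
      ((hYH.trans (le_normalizer_pRad le_normalizer)) hy) ht (hU.hH htH)).symm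

/-- `R` centralises `O^p(F*(N_G(U)))`. -/
theorem le_centralizer_opFit (ha : a ∈ R) (hap : (orderOf a).Prime) (hU : Adm p G R a U) :
    R ≤ centralizer (opFit p (G ⊓ normalizer (U : Set X)) : Set X) := by
  have ha1 : a ≠ 1 := fun e => by rw [e, orderOf_one] at hap; exact Nat.not_prime_one hap
  set M := G ⊓ normalizer (U : Set X)
  set L := opFit p M
  have hLG : L ≤ G := (opFit_le p M).trans inf_le_left
  have hRL : R ≤ normalizer (L : Set X) := le_normalizer_opFit (h.le_normalizer_local hU)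
  have hactL : CoprimeAct L R := ⟨hRL, h.act.cop.coprime_dvd_right (card_dvd_of_le hLG), h.act.solv⟩
  set C := (L ⊓ centralizer (R : Set X)).subgroupOf L
  have hC : ∀ (q : ℕ), q.Prime → q ≠ p → ¬ q ∣ C.index := by
    intro q hq hqp
    haveI : Fact q.Prime := ⟨hq⟩
    obtain ⟨S, hS⟩ := CfsgLib.Solvable.exists_invariant_sylow R L hRL hactL.cop (Or.inl h.act.solv) q
    have hle := h.le_centralizer_of_qGroup ha hap hU hqp (map_subtype_le _) (S.2.map L.subtype) hS
    have hSC : (S : Subgroup ↥L) ≤ C := fun s hs => ⟨s.2, hle (mem_map_of_mem _ hs)⟩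
    exact fun hd => S.not_dvd_index (hd.trans (Subgroup.index_dvd_of_le hSC))
  have hsplit : ∀ S : Sylow p ↥L, ∀ l : ↥L, ∃ s ∈ (S : Subgroup ↥L), ∃ c ∈ C, l = s * c := by
    intro S
    refine CfsgLib.Solvable.mul_of_coprime_index (Nat.coprime_of_dvd fun q hq h1 h2 => ?_)
    by_cases hqp : q = p
    · subst hqp; exact S.not_dvd_index h1
    · exact hC q hq hqp h2
  intro ρ hρ
  have hgen : L ≤ centralizer ({ρ} : Set X) := by
    refine (closure_le _).2 fun x hx => ?_
    rw [SetLike.mem_coe, mem_centralizer_singleton_iff]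
    have hxL : x ∈ L := subset_closure hx
    set z := x⁻¹ * (ρ * x * ρ⁻¹) with hz
    have hzV : z ∈ invCore p L R := mem_invCore_iff.2 fun S hS => by
      obtain ⟨s, hs, c, hc, e⟩ := hsplit S ⟨x⁻¹, L.inv_mem hxL⟩
      have e' : x⁻¹ = (s : X) * c := congrArg Subtype.val e
      have hcR : ρ * (c : X) = c * ρ := mem_centralizer_iff.1 hc.2 ρ hρ
      have : z = (s : X) * (ρ * (s : X)⁻¹ * ρ⁻¹) := by
        calc z = (s : X) * c * (ρ * ((s : X) * c)⁻¹ * ρ⁻¹) := by rw [hz, ← e', inv_inv]
          _ = (s : X) * (c * ρ * (c : X)⁻¹) * (s : X)⁻¹ * ρ⁻¹ := by group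
          _ = (s : X) * (ρ * c * (c : X)⁻¹) * (s : X)⁻¹ * ρ⁻¹ := by rw [hcR]
          _ = (s : X) * (ρ * (s : X)⁻¹ * ρ⁻¹) := by group
      rw [this]
      have hsm : (s : X) ∈ (S : Subgroup ↥L).map L.subtype := mem_map_of_mem _ hs
      exact mul_mem hsm ((mem_normalizer_iff.1 (hS hρ) _).1 (inv_mem hsm))
    have hCM : G ⊓ centralizer (R : Set X) ≤ M := (h.fixed_le_fixedBy ha).trans (h.fixedBy_le_local hU)
    have hzU : z ∈ U := h.core_inf_le ha ha1 hU ⟨le_invCore h.act ((invCore_le hactL).trans hLG)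
      (isPGroup_invCore hactL) (le_normalizer_invCore hactL) (fun g hg => mem_normalizer_invCore hactL
        (le_normalizer_opFit le_normalizer (hCM hg)) (centralizer_le_normalizer _ hg.2)) hzV, invCore_le hactL hzV⟩
    exact (commute_of_mem (isPGroup_invCore hactL) hx.2 hzV
      (mem_centralizer_iff.1 (h.opFit_le_centralizer hU hxL) z hzU).symm).symm.eq
  exact mem_centralizer_iff.2 fun l hl => mem_centralizer_singleton_iff.1 (hgen hl)

/-- `O^p(F*(N_G(U)))` centralises `P ∩ N_G(U)`, indeed `P`. -/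
theorem opFit_le_centralizer_core (ha : a ∈ R) (hap : (orderOf a).Prime) (hU : Adm p G R a U) :
    opFit p (G ⊓ normalizer (U : Set X)) ≤ centralizer (invCore p G R : Set X) := by
  have ha1 : a ≠ 1 := fun e => by rw [e, orderOf_one] at hap; exact Nat.not_prime_one hap
  refine (closure_le _).2 fun x hx => ?_
  have hxL : x ∈ opFit p (G ⊓ normalizer (U : Set X)) := subset_closure hx
  exact h.fixed_centralizes_core ha ha1 hU hxL hx.2
    (mem_centralizer_iff.2 fun ρ hρ => (mem_centralizer_iff.1 (h.le_centralizer_opFit ha hap hU hρ) x hxL).symm)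

end Setup

end CfsgLib.OpFitCoprime
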