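import Cfsg.Agent.Lib.OpFitCoprime.Fit
import Cfsg.Agent.Lib.OpFitCoprime.Core
import Cfsg.Agent.Lib.Techniques.KSeq
import Mathlib.GroupTheory.Nilpotent

/-!
Facts inside a single fixed-point subgroup `H`, where a coprime group `R` centralises `O^p(F*(H))`.
-/

set_option autoImplicit false
set_option linter.unusedSectionVars false
set_option linter.style.haveILetI false

namespace CfsgLib.OpFitCoprime

open Subgroup Cfsg
open scoped commutatorElement

variable {X : Type*} [Group X] [Finite X] {p : ℕ} [hp : Fact p.Prime]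

/-- If `g x g⁻¹ ∈ x Q` for a `p`-group `Q` whose element commutes with the `p'`-element `x`, then `g`
commutes with `x`. -/
theorem commute_of_mem {g x : X} {Q : Subgroup X} (hQ : IsPGroup p Q) (hx : (orderOf x).Coprime p)
    (hz : x⁻¹ * (g * x * g⁻¹) ∈ Q) (hc : Commute x (x⁻¹ * (g * x * g⁻¹))) : Commute g x := by
  set z := x⁻¹ * (g * x * g⁻¹) with hzdef
  have h1 : (x * z) ^ orderOf x = 1 := by
    rw [hzdef, mul_inv_cancel_left, conj_pow, pow_orderOf_eq_one, mul_one, mul_inv_cancel]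
  rw [hc.mul_pow, pow_orderOf_eq_one, one_mul] at h1
  obtain ⟨k, hk⟩ := IsPGroup.iff_orderOf.1 hQ ⟨z, hz⟩
  rw [Subgroup.orderOf_mk] at hk
  have : z = 1 := by
    rw [← orderOf_eq_one_iff]
    exact Nat.eq_one_of_dvd_coprimes (hx.pow_right k) (orderOf_dvd_of_pow_eq_one h1) (by rw [hk])
  exact mul_inv_eq_iff_eq_mul.1 (inv_mul_eq_one.1 this).symm

/-- A subgroup whose `p'`-elements are central is nilpotent. -/
theorem isNilpotent_of_pPrime_central {N : Subgroup X}
    (h : ∀ x ∈ N, (orderOf x).Coprime p → x ∈ centralizer (N : Set X)) : Group.IsNilpotent N := by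
  refine Group.of_quotient_center_nilpotent (IsPGroup.isNilpotent (p := p) fun q => ?_)
  obtain ⟨⟨x, hx⟩, rfl⟩ := QuotientGroup.mk_surjective q
  obtain ⟨a, b, hab, ha, hb, ⟨k, hk⟩, hbc⟩ := CfsgLib.Cores.exists_pow_mul_pow p x
  have haN : a ∈ N := zpowers_le.2 hx ha
  have hbN : b ∈ N := zpowers_le.2 hx hb
  refine ⟨k, ?_⟩
  rw [show (⟨x, hx⟩ : N) = ⟨a, haN⟩ * ⟨b, hbN⟩ from Subtype.ext hab, QuotientGroup.mk_mul,
    (QuotientGroup.eq_one_iff (⟨b, hbN⟩ : N)).2 (mem_center_iff.2 fun y =>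
      Subtype.ext (mem_centralizer_iff.1 (h b hbN hbc) y y.2)), mul_one, ← QuotientGroup.mk_pow]
  rw [show (⟨a, haN⟩ : N) ^ p ^ k = 1 from Subtype.ext (by simp [← hk, pow_orderOf_eq_one])]
  rfl

/-- The `p`-elements of a nilpotent subgroup normalised by `H` lie in `O_p(H)`. -/
theorem mem_pRad_of_nilpotent {H N : Subgroup X} (hNH : N ≤ H) (hn : H ≤ normalizer (N : Set X))
    (hnil : Group.IsNilpotent N) {t : X} (ht : t ∈ N) {k : ℕ} (hk : orderOf t = p ^ k) :
    t ∈ pRad p H := by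
  haveI := CfsgLib.Cores.pCore_characteristic (G := ↥N) p
  refine le_pRad (Q := (pCore p ↥N).map N.subtype) ((CfsgLib.Cores.isPGroup_pCore p).map _)
    ((map_subtype_le _).trans hNH) (le_normalizer_map_char hn) ⟨⟨t, ht⟩, ?_, rfl⟩
  obtain ⟨P, hP⟩ := (IsPGroup.of_card (p := p) (n := k) (G := ↥(zpowers (⟨t, ht⟩ : N))) (by
    rw [Nat.card_zpowers, Subgroup.orderOf_mk]; exact hk)).exists_le_sylow
  haveI : (P : Subgroup N).Normal :=
    Sylow.normal_of_normalizerCondition (Group.normalizerCondition_of_isNilpotent (h := hnil)) P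
  exact CfsgLib.Cores.le_pCore P.2 (hP (mem_zpowers _))

variable {H R : Subgroup X}

/-- If `R` centralises `O^p(F*(H))` and the `p'`-elements of a nilpotent normal subgroup `N` of `H`
lie in `O^p(F*(H))`, then `⁅N, R⁆ ≤ O_p(H)`. -/
theorem commutator_le_pRad {N : Subgroup X} (hRH : R ≤ normalizer (H : Set X))
    (hloc : R ≤ centralizer (opFit p H : Set X)) (hNH : N ≤ H) (hn : H ≤ normalizer (N : Set X))
    (hnil : Group.IsNilpotent N) (hp' : ∀ x ∈ N, (orderOf x).Coprime p → x ∈ opFit p H) :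
    ⁅N, R⁆ ≤ pRad p H := by
  rw [commutator_le]
  intro x hx ρ hρ
  obtain ⟨a, b, rfl, ha, hb, ⟨k, hk⟩, hbc⟩ := CfsgLib.Cores.exists_pow_mul_pow p x
  have haT : a ∈ pRad p H := mem_pRad_of_nilpotent hNH hn hnil (zpowers_le.2 hx ha) hk
  have hcomm : b * ρ = ρ * b := mem_centralizer_iff.1 (hloc hρ) b (hp' b (zpowers_le.2 hx hb) hbc)
  have e : ⁅a * b, ρ⁆ = a * (ρ * a⁻¹ * ρ⁻¹) := by
    calc ⁅a * b, ρ⁆ = a * (b * ρ) * b⁻¹ * a⁻¹ * ρ⁻¹ := by rw [commutatorElement_def]; group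
      _ = a * (ρ * b) * b⁻¹ * a⁻¹ * ρ⁻¹ := by rw [hcomm]
      _ = a * (ρ * a⁻¹ * ρ⁻¹) := by group
  rw [e]
  exact mul_mem haT ((mem_normalizer_iff.1 (le_normalizer_pRad hRH hρ) _).1 (inv_mem haT))

/-- `⁅H, R⁆` centralises `O^p(F*(H))` when `R` does. -/
theorem commutator_le_centralizer_opFit (hloc : R ≤ centralizer (opFit p H : Set X)) :
    ⁅H, R⁆ ≤ centralizer (opFit p H : Set X) := by
  rw [commutator_le]
  intro h hh ρ hρ
  refine mem_centralizer_iff.2 fun l hl => ?_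
  have hn := le_normalizer_opFit (p := p) (le_normalizer (H := H))
  have hl' : h⁻¹ * l * h ∈ opFit p H := by
    have := (mem_normalizer_iff.1 (hn (inv_mem hh)) l).1 hl
    simpa using this
  have h1 : l * ρ = ρ * l := mem_centralizer_iff.1 (hloc hρ) l hl
  have h2 : (h⁻¹ * l * h) * ρ = ρ * (h⁻¹ * l * h) := mem_centralizer_iff.1 (hloc hρ) _ hl'
  have h3 : ρ⁻¹ * l = l * ρ⁻¹ := by
    calc ρ⁻¹ * l = ρ⁻¹ * (l * ρ) * ρ⁻¹ := by group
      _ = ρ⁻¹ * (ρ * l) * ρ⁻¹ := by rw [h1]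
      _ = l * ρ⁻¹ := by group
  calc l * ⁅h, ρ⁆ = h * ((h⁻¹ * l * h) * ρ) * h⁻¹ * ρ⁻¹ := by rw [commutatorElement_def]; group
    _ = h * (ρ * (h⁻¹ * l * h)) * h⁻¹ * ρ⁻¹ := by rw [h2]
    _ = h * ρ * h⁻¹ * (l * ρ⁻¹) := by group
    _ = h * ρ * h⁻¹ * (ρ⁻¹ * l) := by rw [h3]
    _ = ⁅h, ρ⁆ * l := by rw [commutatorElement_def]; group

/-- A `p'`-element of `H` centralising `O_p(H)` is centralised by `R`. -/
theorem commute_of_centralizes_pRad (hRH : R ≤ normalizer (H : Set X))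
    (hloc : R ≤ centralizer (opFit p H : Set X)) (hcop : (Nat.card R).Coprime (Nat.card H))
    (hsolv : Group.IsSolvable R) {y : X} (hy : y ∈ H) (hyp : (orderOf y).Coprime p)
    (hyT : y ∈ centralizer (pRad p H : Set X)) {ρ : X} (hρ : ρ ∈ R) : Commute ρ y := by
  set D := H ⊓ centralizer (pRad p H : Set X) with hD
  set Z := D ⊓ centralizer (opFit p H : Set X) with hZ
  have hHD : H ≤ normalizer (D : Set X) := fun g hg =>
    CfsgLib.Solvable.mem_normalizer_of_conj_mem fun d hd =>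
      ⟨H.mul_mem (H.mul_mem hg hd.1) (H.inv_mem hg),
        (mem_normalizer_iff.1 (Techniques.KSeq.normalizer_le_normalizer_centralizer _
          (le_normalizer_pRad le_normalizer hg)) d).1 hd.2⟩
  have hRD : R ≤ normalizer (D : Set X) := fun g hg =>
    CfsgLib.Solvable.mem_normalizer_of_conj_mem fun d hd =>
      ⟨(mem_normalizer_iff.1 (hRH hg) d).1 hd.1,
        (mem_normalizer_iff.1 (Techniques.KSeq.normalizer_le_normalizer_centralizer _
          (le_normalizer_pRad hRH hg)) d).1 hd.2⟩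
  have hHZ : H ≤ normalizer (Z : Set X) := fun g hg =>
    CfsgLib.Solvable.mem_normalizer_of_conj_mem fun d hd =>
      ⟨(mem_normalizer_iff.1 (hHD hg) d).1 hd.1,
        (mem_normalizer_iff.1 (Techniques.KSeq.normalizer_le_normalizer_centralizer _
          (le_normalizer_opFit le_normalizer hg)) d).1 hd.2⟩
  have hDR : ⁅D, R⁆ ≤ Z := le_inf (CfsgLib.Solvable.commutator_le_of_le_normalizer hRD)
    ((commutator_mono inf_le_left le_rfl).trans (commutator_le_centralizer_opFit hloc))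
  have hnil : Group.IsNilpotent Z := by
    refine isNilpotent_of_pPrime_central (p := p) fun x hx _ => mem_centralizer_iff.2 fun z hz => ?_
    exact mem_centralizer_iff.1 (mem_fitStar_center hx.1.1 hx.2 hx.1.2).2 z
      (mem_fitStar_center hz.1.1 hz.2 hz.1.2).1
  have hZR : ⁅Z, R⁆ ≤ pRad p H := commutator_le_pRad hRH hloc (inf_le_left.trans inf_le_left) hHZ hnil
    fun x hx hxp => mem_opFit (mem_fitStar_center hx.1.1 hx.2 hx.1.2).1 hxp
  have hDRT : ⁅D, R⁆ ≤ pRad p H := by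
    rw [← CfsgLib.Solvable.commutator_commutator_self hRD
      (hcop.coprime_dvd_right (card_dvd_of_le inf_le_left)) (Or.inl hsolv)]
    exact (commutator_mono hDR le_rfl).trans hZR
  have hz : y⁻¹ * (ρ * y * ρ⁻¹) ∈ pRad p H := by
    have := hDRT (commutator_mem_commutator (g₁ := y⁻¹) (show y⁻¹ ∈ D from D.inv_mem ⟨hy, hyT⟩) hρ)
    simpa [commutatorElement_def, mul_assoc] using this
  exact commute_of_mem isPGroup_pRad hyp hz (mem_centralizer_iff.1 hyT _ hz).symm

end CfsgLib.OpFitCoprime
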